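import Mathlib.RingTheory.Bialgebra.MonoidAlgebra
import Mathlib.LinearAlgebra.TensorProduct.Tower
import Mathlib.LinearAlgebra.Basis.VectorSpace
import Mathlib.RingTheory.Localization.Integer

/-!
# Quotients of group algebras closed under products
-/

set_option autoImplicit false

universe u

open TensorProduct

namespace Groth.Agent.H60.TorusFree

/-- Distinct group-like elements are linearly independent. -/
theorem linearIndepOn_of_grouplike {K C : Type u} [Field K] [CommRing C] [Algebra K C] [Nontrivial C]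
    (Δ : C →ₗ[K] C ⊗[K] C) (s : Set C) (hs : ∀ x ∈ s, Δ x = x ⊗ₜ x) (hu : ∀ x ∈ s, IsUnit x) :
    LinearIndepOn K id s := by
  classical
  obtain ⟨b, hbs, hspan, hb⟩ := exists_linearIndependent K s
  have hb0 : LinearIndepOn K id b := hb
  suffices s ⊆ b from hb0.mono this
  intro x hx
  have hb' : LinearIndepOn K id b := hb
  have hmem : x ∈ Submodule.span K b := by rw [hspan]; exact Submodule.subset_span hx
  let B := Module.Basis.extend hb'
  obtain ⟨c, hc⟩ := (Finsupp.mem_span_range_iff_exists_finsupp (v := ((↑) : b → C))).1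
    (by rwa [Subtype.range_coe])
  let f : b → C →ₗ[K] K := fun i => B.coord ⟨i.1, hb'.subset_extend _ i.2⟩
  have hf : ∀ i j : b, f i j.1 = if i = j then 1 else 0 := fun i j => by
    have e : j.1 = B ⟨j.1, hb'.subset_extend _ j.2⟩ := (Module.Basis.extend_apply_self hb' ⟨j.1, hb'.subset_extend _ j.2⟩).symm
    conv_lhs => rw [e]
    simp only [f, Module.Basis.coord_apply, Module.Basis.repr_self, Finsupp.single_apply]
    by_cases h : i = j
    · subst h; simp
    · rw [if_neg h, if_neg fun h' => h (Subtype.ext (congrArg (fun z : hb'.extend _ => (z : C)) h').symm)]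
  have hfx : ∀ i, f i x = c i := fun i => by
    rw [← hc, Finsupp.sum, map_sum, Finset.sum_eq_single i]
    · simp [hf]
    · intro j _ hj; simp [hf, Ne.symm hj]
    · intro h; simp [Finsupp.notMem_support_iff.1 h]
  have key : ∀ i j, c i * c j = if i = j then c i else 0 := fun i j => by
    have h1 := congrArg (TensorProduct.map (f i) (f j)) (hs x hx)
    rw [TensorProduct.map_tmul, hfx, hfx] at h1
    have h2 := congrArg (TensorProduct.map (f i) (f j)) (congrArg Δ hc.symm)
    rw [h1] at h2
    have h3 := congrArg (TensorProduct.lid K K) h2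
    rw [TensorProduct.lid_tmul, smul_eq_mul, Finsupp.sum] at h3
    simp only [map_sum, map_smul, hs _ (hbs (Subtype.coe_prop _)), TensorProduct.map_tmul,
      TensorProduct.lid_tmul, smul_eq_mul, hf] at h3
    rw [h3, Finset.sum_eq_single i]
    · by_cases h : i = j <;> simp [h, eq_comm]
    · intro l _ hl; simp [Ne.symm hl]
    · intro h; simp [Finsupp.notMem_support_iff.1 h]
  have hne : ∃ i, c i ≠ 0 := by
    by_contra h
    push Not at h
    have hc0 : c = 0 := Finsupp.ext h
    subst hc0
    exact (hu x hx).ne_zero (by simpa using hc.symm)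
  obtain ⟨i, hi⟩ := hne
  have h1 : c i = 1 := by
    have := key i i
    rw [if_pos rfl] at this
    exact mul_left_cancel₀ hi (this.trans (mul_one _).symm)
  have hc1 : c = Finsupp.single i 1 := Finsupp.ext fun j => by
    by_cases h : i = j
    · subst h; simp [h1]
    · have := key i j
      rw [if_neg h, h1, one_mul] at this
      simp [this, Finsupp.single_eq_of_ne (Ne.symm h)]
  rw [← hc, hc1, Finsupp.sum_single_index (by simp), one_smul]
  exact i.2

variable {R K : Type u} [CommRing R] [Field K] [Algebra R K] [IsFractionRing R K]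

/-- Membership in an extended ideal of a group algebra, after clearing denominators. -/
theorem exists_smul_mem {Λ : Type} [CommMonoid Λ] (I : Ideal (MonoidAlgebra R Λ))
    (a : MonoidAlgebra R Λ)
    (h : MonoidAlgebra.mapRingHom Λ (algebraMap R K) a ∈ I.map (MonoidAlgebra.mapRingHom Λ (algebraMap R K))) :
    ∃ s ∈ nonZeroDivisors R, s • a ∈ I := by
  classical
  set ψ := MonoidAlgebra.mapRingHom Λ (algebraMap R K) with hψ
  have hs1 : ∀ (s : R) (a : MonoidAlgebra R Λ), ψ (s • a) = algebraMap R K s • ψ a := fun s a => by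
    ext g
    simp [hψ, Algebra.smul_def]
  have clear : ∀ b : MonoidAlgebra K Λ, ∃ s ∈ nonZeroDivisors R, ∃ a, algebraMap R K s • b = ψ a := by
    intro b
    induction b using MonoidAlgebra.induction_on with
    | of g => exact ⟨1, Submonoid.one_mem _, MonoidAlgebra.of R Λ g, by simp [hψ, MonoidAlgebra.of_apply]⟩
    | add f g hf hg =>
      obtain ⟨s, hs, a, ha⟩ := hf; obtain ⟨t, ht, b, hb⟩ := hg
      refine ⟨s * t, Submonoid.mul_mem _ hs ht, t • a + s • b, ?_⟩
      rw [map_add, hs1, hs1, ← ha, ← hb, smul_add, map_mul, smul_smul, smul_smul, mul_comm (algebraMap R K t)]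
    | smul r f hf =>
      obtain ⟨s, hs, a, ha⟩ := hf
      obtain ⟨⟨n, t, ht⟩, hnt⟩ := IsLocalization.surj (nonZeroDivisors R) r
      refine ⟨s * t, Submonoid.mul_mem _ hs ht, n • a, ?_⟩
      rw [hs1, ← ha, ← hnt, map_mul, smul_smul, smul_smul]
      congr 1
      ring
  have main : ∀ y ∈ I.map ψ, ∃ s ∈ nonZeroDivisors R, ∃ a ∈ I, algebraMap R K s • y = ψ a := by
    intro y hy
    refine Submodule.span_induction ?_ ?_ ?_ ?_ hy
    · rintro _ ⟨a, ha, rfl⟩; exact ⟨1, Submonoid.one_mem _, a, ha, by simp⟩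
    · exact ⟨1, Submonoid.one_mem _, 0, I.zero_mem, by simp⟩
    · rintro x y _ _ ⟨s, hs, a, ha, hxa⟩ ⟨t, ht, b, hb, hyb⟩
      refine ⟨s * t, Submonoid.mul_mem _ hs ht, t • a + s • b, I.add_mem ?_ ?_, ?_⟩
      · exact Submodule.smul_of_tower_mem _ t ha
      · exact Submodule.smul_of_tower_mem _ s hb
      rw [map_add, hs1, hs1, ← hxa, ← hyb, smul_add, map_mul, smul_smul, smul_smul, mul_comm (algebraMap R K t)]
    · rintro c x _ ⟨s, hs, a, ha, hxa⟩
      obtain ⟨t, ht, c', hc'⟩ := clear c
      refine ⟨s * t, Submonoid.mul_mem _ hs ht, c' * a, I.mul_mem_left _ ha, ?_⟩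
      rw [map_mul ψ, ← hc', ← hxa, smul_eq_mul, map_mul]
      simp only [Algebra.smul_mul_assoc, Algebra.mul_smul_comm, smul_smul, mul_comm]
  obtain ⟨s, hs, a', ha', he⟩ := main _ h
  refine ⟨s, hs, ?_⟩
  rw [← hs1] at he
  have hinj : Function.Injective ψ := by
    intro x y hxy
    ext g
    have := congrArg (fun z : MonoidAlgebra K Λ => z.coeff g) hxy
    simpa [hψ, (IsFractionRing.injective R K).eq_iff] using this
  rwa [hinj he]

end Groth.Agent.H60.TorusFree
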