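import Groth.Agent.H60.TorusFree.Algebra
import Groth.Agent.Lib.DiagGL.Points
import Groth.Agent.S2299
import Groth.Agent.Lib.GrpSch.Basic
import Groth.Prelude.Def_AlgSt5
import Mathlib.AlgebraicGeometry.Morphisms.SchemeTheoreticallyDominant
import Mathlib.Algebra.MonoidAlgebra.Module

/-!
# Torus actions: generically trivial stabilisers
-/

set_option autoImplicit false

universe u

open CategoryTheory Limits MonoidalCategory CartesianMonoidalCategory MonObj AlgebraicGeometry
open Groth.Agent.Lib TensorProduct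

namespace Groth.Agent.H60.TorusFree

attribute [local instance] RedPts.Points.baseAlgebra

noncomputable section

variable {k : Type u} [Field k] {Λ : Type} [AddCommGroup Λ]
variable {X : Over (Spec (CommRingCat.of k))}

/-- The affine scheme of a `k`-algebra. -/
abbrev aff (k : Type u) [Field k] (C : Type u) [CommRing C] [Algebra k C] : Over (Spec (CommRingCat.of k)) :=
  (Spec (CommRingCat.of C)).asOver (Spec (CommRingCat.of k))

/-- The point of `D(Λ)` with values in `C` given by a character. -/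
def gPt {C : Type u} [CommRing C] [Algebra k C] (χ : Multiplicative Λ →* C) :
    aff k C ⟶ Red.diag k Λ :=
  RedPts.Affine.diagPt ((Scheme.ΓSpecIso (CommRingCat.of C)).inv.hom.toMonoidHom.comp χ)

theorem diagFn_gPt {C : Type u} [CommRing C] [Algebra k C] (χ : Multiplicative Λ →* C) (m : Λ) :
    RedPts.Affine.diagFn (gPt (k := k) χ) m =
      (Scheme.ΓSpecIso (CommRingCat.of C)).inv (χ (Multiplicative.ofAdd m)) :=
  RedPts.Affine.diagFn_diagPt _ _

theorem gPt_mul {C : Type u} [CommRing C] [Algebra k C] (χ χ' : Multiplicative Λ →* C) :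
    gPt (k := k) (χ * χ') = gPt χ * gPt χ' := by
  refine RedPts.Affine.diagFn_ext fun m => ?_
  rw [RedPts.Affine.diagFn_mul, diagFn_gPt, diagFn_gPt, diagFn_gPt, MonoidHom.mul_apply, map_mul]
  rfl

theorem gPt_one (C : Type u) [CommRing C] [Algebra k C] :
    gPt (k := k) (1 : Multiplicative Λ →* C) = 1 := by
  refine RedPts.Affine.diagFn_ext fun m => ?_
  rw [RedPts.Affine.diagFn_one, diagFn_gPt, MonoidHom.one_apply, map_one]
  rfl

/-- The morphism of affine schemes given by an algebra map. -/
def mapA {C C' : Type u} [CommRing C] [Algebra k C] [CommRing C'] [Algebra k C'] (ψ : C →ₐ[k] C') :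
    aff k C' ⟶ aff k C :=
  Over.homMk (Spec.map (CommRingCat.ofHom ψ.toRingHom)) (by
    change Spec.map _ ≫ Spec.map _ = Spec.map _
    rw [← Spec.map_comp]
    congr 1
    ext a
    exact ψ.commutes a)

theorem mapA_gPt {C C' : Type u} [CommRing C] [Algebra k C] [CommRing C'] [Algebra k C']
    (ψ : C →ₐ[k] C') (χ : Multiplicative Λ →* C) :
    mapA ψ ≫ gPt χ = gPt (ψ.toMonoidHom.comp χ) := by
  refine RedPts.Affine.diagFn_ext fun m => ?_
  rw [RedPts.Affine.diagFn_comp, diagFn_gPt, diagFn_gPt]
  exact (ConcreteCategory.congr_hom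
    (Scheme.ΓSpecIso_inv_naturality (CommRingCat.ofHom ψ.toRingHom)) (χ (Multiplicative.ofAdd m))).symm

theorem mapA_comp {C C' C'' : Type u} [CommRing C] [Algebra k C] [CommRing C'] [Algebra k C']
    [CommRing C''] [Algebra k C''] (ψ : C →ₐ[k] C') (ψ' : C' →ₐ[k] C'') :
    mapA ψ' ≫ mapA ψ = mapA (ψ'.comp ψ) := by
  refine Over.OverMorphism.ext ?_
  change Spec.map _ ≫ Spec.map _ = Spec.map _
  rw [← Spec.map_comp]
  rfl

variable (a : AlgGrp.Action (Red.diag k Λ) X) {R : Type u} [CommRing R] [Algebra k R]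
  (j : aff k R ⟶ X)

/-- The point `(χ, φ)` is fixed. -/
def Fix {C : Type u} [CommRing C] [Algebra k C] (φ : R →ₐ[k] C) (χ : Multiplicative Λ →* C) : Prop :=
  lift (gPt χ) (mapA φ ≫ j) ≫ a.act = mapA φ ≫ j

theorem Fix.map {C C' : Type u} [CommRing C] [Algebra k C] [CommRing C'] [Algebra k C']
    {φ : R →ₐ[k] C} {χ : Multiplicative Λ →* C} (h : Fix a j φ χ) (ψ : C →ₐ[k] C') :
    Fix a j (ψ.comp φ) (ψ.toMonoidHom.comp χ) := by
  have h' := congrArg (mapA ψ ≫ ·) h
  rw [comp_lift_assoc, mapA_gPt, ← Category.assoc, mapA_comp] at h'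
  exact h'

theorem Fix.one {C : Type u} [CommRing C] [Algebra k C] (φ : R →ₐ[k] C) : Fix a j φ 1 := by
  rw [Fix, gPt_one]
  exact GrpSch.act_one a _

theorem Fix.mul {C : Type u} [CommRing C] [Algebra k C] {φ : R →ₐ[k] C}
    {χ χ' : Multiplicative Λ →* C} (h : Fix a j φ χ) (h' : Fix a j φ χ') : Fix a j φ (χ * χ') := by
  unfold Fix at h h' ⊢
  refine ((congrArg (fun z => CartesianMonoidalCategory.lift z (mapA φ ≫ j) ≫ a.act) (gPt_mul χ χ')).trans
    (GrpSch.act_mul a (gPt χ) (gPt χ') _)).trans ?_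
  exact (congrArg (fun z => CartesianMonoidalCategory.lift (gPt χ) z ≫ a.act) h').trans h

/-- The algebra map of a pair. -/
abbrev pairHom {C : Type u} [CommRing C] [Algebra k C] (φ : R →ₐ[k] C)
    (χ : Multiplicative Λ →* C) : MonoidAlgebra R (Multiplicative Λ) →+* C :=
  MonoidAlgebra.liftNCRingHom φ.toRingHom χ fun _ _ => Commute.all _ _

@[simp] theorem pairHom_single {C : Type u} [CommRing C] [Algebra k C] (φ : R →ₐ[k] C)
    (χ : Multiplicative Λ →* C) (m : Multiplicative Λ) (r : R) :
    pairHom φ χ (MonoidAlgebra.single m r) = φ r * χ m :=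
  MonoidAlgebra.liftNC_single _ _ _ _

/-- The fixed pairs are those killing an ideal. -/
theorem exists_ideal [IsSeparated X.hom] :
    ∃ I : Ideal (MonoidAlgebra R (Multiplicative Λ)), ∀ (C : Type u) [CommRing C] [Algebra k C]
      (φ : R →ₐ[k] C) (χ : Multiplicative Λ →* C),
      Fix a j φ χ ↔ I ≤ RingHom.ker (pairHom φ χ) := by
  let A := MonoidAlgebra R (Multiplicative Λ)
  let φu : R →ₐ[k] A := IsScalarTower.toAlgHom k R A
  let χu : Multiplicative Λ →* A := MonoidAlgebra.of R (Multiplicative Λ)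
  let u := lift (gPt χu) (mapA φu ≫ j) ≫ a.act
  let v := mapA φu ≫ j
  let e : (equalizer u v).left ⟶ Spec (CommRingCat.of A) := (equalizer.ι u v).left
  haveI : IsClosedImmersion e := inferInstanceAs (IsClosedImmersion (equalizer.ι u v).left)
  obtain ⟨I, i, hi⟩ := (IsClosedImmersion.Spec_iff (R := CommRingCat.of A) (f := e)).mp ‹_›
  refine ⟨I, fun C _ _ φ χ => ?_⟩
  let ψ : A →ₐ[k] C := { pairHom φ χ with
    commutes' := fun c => by
      change pairHom φ χ (algebraMap k A c) = _
      rw [IsScalarTower.algebraMap_apply k R A, MonoidAlgebra.coe_algebraMap]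
      exact (pairHom_single φ χ _ _).trans (by simp) }
  have hφ : ψ.comp φu = φ := AlgHom.ext fun r => by
    change pairHom φ χ (algebraMap R (MonoidAlgebra R (Multiplicative Λ)) r) = _
    simp [MonoidAlgebra.coe_algebraMap]
  have hχ : ψ.toMonoidHom.comp χu = χ := MonoidHom.ext fun m => by
    change pairHom φ χ (MonoidAlgebra.of R _ m) = _
    simp [MonoidAlgebra.of_apply]
  have hu : mapA ψ ≫ u = lift (gPt χ) (mapA φ ≫ j) ≫ a.act := by
    rw [comp_lift_assoc, mapA_gPt, hχ, ← Category.assoc, mapA_comp, hφ]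
  have hv : mapA ψ ≫ v = mapA φ ≫ j := by rw [← Category.assoc, mapA_comp, hφ]
  constructor
  · intro h
    let l : aff k C ⟶ equalizer u v := equalizer.lift (mapA ψ) (by rw [hu, hv]; exact h)
    have hl : l.left ≫ e = Spec.map (CommRingCat.ofHom ψ.toRingHom) :=
      congrArg CommaMorphism.left (equalizer.lift_ι (mapA ψ) _)
    let l' : Spec (CommRingCat.of C) ⟶ (equalizer u v).left := l.left
    have hl' : (l' ≫ i.hom) ≫ Spec.map (CommRingCat.ofHom (Ideal.Quotient.mk I)) =
        Spec.map (CommRingCat.ofHom ψ.toRingHom) :=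
      (Category.assoc _ _ _).trans ((congrArg (fun z => l' ≫ z) hi.symm).trans hl)
    obtain ⟨g, hg⟩ := Spec.map_surjective (l' ≫ i.hom)
    rw [← hg, ← Spec.map_comp] at hl'
    have e2 := Spec.map_injective hl'
    intro x hx
    have := ConcreteCategory.congr_hom e2 x
    change g.hom (Ideal.Quotient.mk I x) = pairHom φ χ x at this
    rw [RingHom.mem_ker, ← this, Ideal.Quotient.eq_zero_iff_mem.2 hx, map_zero]
  · intro h
    let g : A ⧸ I →+* C := Ideal.Quotient.lift I (pairHom φ χ) fun x hx => h hx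
    let l' : Spec (CommRingCat.of C) ⟶ (equalizer u v).left := Spec.map (CommRingCat.ofHom g) ≫ i.inv
    have hl' : l' ≫ e = Spec.map (CommRingCat.ofHom ψ.toRingHom) := by
      refine (congrArg (fun z => l' ≫ z) hi).trans ?_
      refine (Category.assoc _ _ _).trans ?_
      refine (congrArg (fun z => Spec.map (CommRingCat.ofHom g) ≫ z) (i.inv_hom_id_assoc _)).trans ?_
      rw [← Spec.map_comp]
      rfl
    let l : aff k C ⟶ equalizer u v := Over.homMk l' (by
      refine (congrArg (fun z => l' ≫ z) (Over.w (equalizer.ι u v)).symm).trans ?_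
      refine (Category.assoc _ _ _).symm.trans ?_
      refine (congrArg (fun z => z ≫ (aff k A).hom) hl').trans ?_
      exact Over.w (mapA ψ))
    have hl : l ≫ equalizer.ι u v = mapA ψ := Over.OverMorphism.ext hl'
    have h2 := congrArg (l ≫ ·) (equalizer.condition u v)
    simp only [← Category.assoc, hl] at h2
    rw [hu, hv] at h2
    exact h2

variable {X : Over (Spec (CommRingCat.of k))}

/-- `Spec R[Q]` is the product of `Spec k[Q]` and `Spec R`. -/
theorem isIso_prodPt {k : Type u} [Field k] {R : Type u} [CommRing R] [Algebra k R] (Q : Type) [CommMonoid Q] :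
    IsIso (lift (mapA (MonoidAlgebra.lift k (MonoidAlgebra R Q) _ (MonoidAlgebra.of R Q)))
      (mapA (IsScalarTower.toAlgHom k R (MonoidAlgebra R Q)))) := by
  let A' := MonoidAlgebra R Q
  let f1 : MonoidAlgebra k Q →ₐ[k] A' := MonoidAlgebra.lift k A' _ (MonoidAlgebra.of R Q)
  let f2 : R →ₐ[k] A' := IsScalarTower.toAlgHom k R A'
  let m := lift (mapA f1) (mapA f2)
  change IsIso m
  let T := MonoidAlgebra k (Q) ⊗[k] R
  let e : T →ₐ[k] A' := Algebra.TensorProduct.lift f1 f2 fun _ _ => Commute.all _ _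
  let jj : A' →+* T := MonoidAlgebra.liftNCRingHom (Algebra.TensorProduct.includeRight : R →ₐ[k] T).toRingHom
    ((Algebra.TensorProduct.includeLeft : _ →ₐ[k] T).toMonoidHom.comp
      (MonoidAlgebra.of k (Q))) fun _ _ => Commute.all _ _
  have h1 : ∀ y, e (jj y) = y := fun y => by
    refine RingHom.congr_fun (f := e.toRingHom.comp jj) (g := RingHom.id (MonoidAlgebra R Q)) ?_ y
    refine MonoidAlgebra.ringHom_ext (fun r => ?_) (fun g => ?_)
    · change e (jj (MonoidAlgebra.single 1 r)) = MonoidAlgebra.single 1 r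
      change e (MonoidAlgebra.liftNC _ _ (MonoidAlgebra.single 1 r)) = _
      rw [MonoidAlgebra.liftNC_single, map_one, _root_.mul_one]
      change e ((1 : MonoidAlgebra k Q) ⊗ₜ[k] r) = _
      rw [Algebra.TensorProduct.lift_tmul, map_one, _root_.one_mul]
      exact congrFun MonoidAlgebra.coe_algebraMap r
    · change e (MonoidAlgebra.liftNC _ _ (MonoidAlgebra.single g 1)) = MonoidAlgebra.single g 1
      rw [MonoidAlgebra.liftNC_single]
      change e (Algebra.TensorProduct.includeRight (1 : R) * (MonoidAlgebra.of k Q g ⊗ₜ[k] (1 : R))) = _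
      rw [map_one, _root_.one_mul, Algebra.TensorProduct.lift_tmul, map_one, _root_.mul_one]
      simp [f1]; rfl
  have h2 : ∀ t, jj (e t) = t := fun t => by
    let jA : MonoidAlgebra R Q →ₐ[k] T := { jj with
      commutes' := fun c => by
        change MonoidAlgebra.liftNC _ _ (algebraMap k (MonoidAlgebra R Q) c) = _
        rw [IsScalarTower.algebraMap_apply k R (MonoidAlgebra R Q), MonoidAlgebra.coe_algebraMap,
          Function.comp_apply, MonoidAlgebra.liftNC_single, map_one, _root_.mul_one]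
        exact (Algebra.TensorProduct.includeRight : R →ₐ[k] T).commutes c }
    refine AlgHom.congr_fun (φ₁ := jA.comp e) (φ₂ := AlgHom.id k T) ?_ t
    refine Algebra.TensorProduct.ext (MonoidAlgebra.algHom_ext (fun g => ?_) (by ext)) (AlgHom.ext fun r => ?_)
    · change jj (e (MonoidAlgebra.single g (1 : k) ⊗ₜ[k] (1 : R))) = MonoidAlgebra.single g (1 : k) ⊗ₜ[k] (1 : R)
      rw [Algebra.TensorProduct.lift_tmul, map_one, _root_.mul_one]
      have : f1 (MonoidAlgebra.single g (1 : k)) = MonoidAlgebra.single g (1 : R) := by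
        simp [f1]; rfl
      rw [this]
      change MonoidAlgebra.liftNC _ _ (MonoidAlgebra.single g (1 : R)) = _
      rw [MonoidAlgebra.liftNC_single]
      change Algebra.TensorProduct.includeRight (1 : R) * (MonoidAlgebra.of k Q g ⊗ₜ[k] (1 : R)) = _
      rw [map_one, _root_.one_mul]
      rfl
    · change jj (e ((1 : MonoidAlgebra k Q) ⊗ₜ[k] r)) = (1 : MonoidAlgebra k Q) ⊗ₜ[k] r
      rw [Algebra.TensorProduct.lift_tmul, map_one, _root_.one_mul]
      change MonoidAlgebra.liftNC _ _ (algebraMap R (MonoidAlgebra R Q) r) = _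
      rw [MonoidAlgebra.coe_algebraMap, Function.comp_apply, MonoidAlgebra.liftNC_single, map_one,
        _root_.mul_one]
      rfl
  haveI : IsIso (CommRingCat.ofHom e.toRingHom) :=
    (ConcreteCategory.isIso_iff_bijective _).2
      ⟨fun x y hxy => (h2 x).symm.trans ((congrArg jj hxy).trans (h2 y)), fun y => ⟨jj y, h1 y⟩⟩
  let n : Spec (CommRingCat.of (MonoidAlgebra R Q)) ⟶
      pullback (Spec.map (CommRingCat.ofHom (algebraMap k (MonoidAlgebra k Q))))
        (Spec.map (CommRingCat.ofHom (algebraMap k R))) :=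
    Spec.map (CommRingCat.ofHom e.toRingHom) ≫ (pullbackSpecIso k (MonoidAlgebra k Q) R).inv
  have hn1 : n ≫ pullback.fst _ _ = (mapA f1).left := by
    simp only [n, Category.assoc, pullbackSpecIso_inv_fst]
    refine (Spec.map_comp _ _).symm.trans ?_
    change Spec.map _ = Spec.map _
    refine congrArg Spec.map (CommRingCat.hom_ext (RingHom.ext fun x => ?_))
    change e (x ⊗ₜ[k] (1 : R)) = f1 x
    rw [Algebra.TensorProduct.lift_tmul, map_one, _root_.mul_one]
  have hn2 : n ≫ pullback.snd _ _ = (mapA f2).left := by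
    simp only [n, Category.assoc, pullbackSpecIso_inv_snd]
    refine (Spec.map_comp _ _).symm.trans ?_
    change Spec.map _ = Spec.map _
    refine congrArg Spec.map (CommRingCat.hom_ext (RingHom.ext fun x => ?_))
    change e ((1 : MonoidAlgebra k Q) ⊗ₜ[k] x) = f2 x
    rw [Algebra.TensorProduct.lift_tmul, map_one, _root_.one_mul]
  have hm : m.left = n := pullback.hom_ext
    ((congrArg CommaMorphism.left (lift_fst (mapA f1) (mapA f2))).trans hn1.symm)
    ((congrArg CommaMorphism.left (lift_snd (mapA f1) (mapA f2))).trans hn2.symm)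
  haveI : IsIso n := inferInstance
  haveI : IsIso ((Over.forget _).map m) := by
    change IsIso m.left
    rw [hm]
    exact ‹IsIso n›
  exact isIso_of_reflects_iso m (Over.forget _)

/-- A quotient of `K[G]` closed under products is a group algebra of a quotient of `G`. -/
theorem exists_hom_of_grouplike {K : Type u} [Field K] {Λ : Type} [AddCommGroup Λ]
    {C : Type u} [CommRing C] [Algebra K C] [Nontrivial C]
    (π : MonoidAlgebra K (Multiplicative Λ) →ₐ[K] C) (Δ : C →ₐ[K] C ⊗[K] C)
    (hΔ : ∀ g, Δ (π (MonoidAlgebra.of K _ g)) =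
      π (MonoidAlgebra.of K _ g) ⊗ₜ π (MonoidAlgebra.of K _ g)) :
    ∃ M' : AddSubgroup Λ, (∀ m ∈ M', π (MonoidAlgebra.of K _ (Multiplicative.ofAdd m)) = 1) ∧
      ∀ x, π x = 0 → MonoidAlgebra.mapDomainAlgHom K K (QuotientAddGroup.mk' M').toMultiplicative x = 0 := by
  classical
  let ε : Multiplicative Λ →* C := π.toMonoidHom.comp (MonoidAlgebra.of K _)
  have hLI := linearIndepOn_of_grouplike Δ.toLinearMap (Set.range ε)
    (by rintro _ ⟨m, rfl⟩; exact hΔ m) (by rintro _ ⟨m, rfl⟩; exact (Group.isUnit m).map ε)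
  let M' : AddSubgroup Λ :=
    { carrier := {m | ε (Multiplicative.ofAdd m) = 1}
      add_mem' := fun {x y} hx hy => by
        change ε (Multiplicative.ofAdd x * Multiplicative.ofAdd y) = 1
        rw [map_mul, hx, hy, _root_.one_mul]
      zero_mem' := map_one ε
      neg_mem' := fun {x} hx => by
        change ε (Multiplicative.ofAdd x)⁻¹ = 1
        have h := map_mul ε (Multiplicative.ofAdd x)⁻¹ (Multiplicative.ofAdd x)
        rw [inv_mul_cancel, map_one, show ε (Multiplicative.ofAdd x) = 1 from hx, _root_.mul_one] at h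
        exact h.symm }
  refine ⟨M', fun m hm => hm, ?_⟩
  let Q := Λ ⧸ M'
  let qh : Multiplicative Λ →* Multiplicative Q := (QuotientAddGroup.mk' M').toMultiplicative
  let p : MonoidAlgebra K (Multiplicative Q) →ₐ[K] C := MonoidAlgebra.lift K C _
    (AddMonoidHom.toMultiplicativeLeft (QuotientAddGroup.lift M'
      (MonoidHom.toAdditiveRight ε) fun x hx => congrArg Additive.ofMul hx))
  have hp : ∀ x, p (MonoidAlgebra.mapDomainAlgHom K K qh x) = π x := by
    intro x
    refine AlgHom.congr_fun (φ₁ := p.comp (MonoidAlgebra.mapDomainAlgHom K K qh)) (φ₂ := π) ?_ x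
    refine MonoidAlgebra.algHom_ext (fun g => ?_) ?_
    · simp [p, qh, ε]; rfl
    · ext
  let f : Multiplicative Q → C := fun q => p (MonoidAlgebra.of K _ q)
  have hf : ∀ g, f (qh g) = ε g := fun g => by
    have := hp (MonoidAlgebra.of K _ g)
    rw [MonoidAlgebra.of_apply] at this
    simpa [f, ε, MonoidAlgebra.of_apply] using this
  have hsurj : ∀ q : Multiplicative Q, ∃ g, qh g = q := fun q => by
    obtain ⟨z, hz⟩ := QuotientAddGroup.mk'_surjective M' q.toAdd
    exact ⟨Multiplicative.ofAdd z, congrArg Multiplicative.ofAdd hz⟩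
  have hfinj : Function.Injective f := by
    intro x y hxy
    obtain ⟨x', rfl⟩ := hsurj x
    obtain ⟨y', rfl⟩ := hsurj y
    rw [hf, hf] at hxy
    refine congrArg Multiplicative.ofAdd (QuotientAddGroup.eq.2 ?_)
    change ε (Multiplicative.ofAdd (-x'.toAdd + y'.toAdd)) = 1
    have : ε (x'⁻¹ * y') = 1 := by
      rw [map_mul, ← hxy, ← map_mul, inv_mul_cancel, map_one]
    exact this
  have hfLI : LinearIndependent K f := by
    refine hLI.linearIndependent.comp (fun q => (⟨f q, ?_⟩ : Set.range ε))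
      fun x y h => hfinj (congrArg Subtype.val h)
    obtain ⟨z, rfl⟩ := hsurj q
    exact ⟨z, (hf z).symm⟩
  have hinj : Function.Injective p := by
    rw [injective_iff_map_eq_zero]
    have hcomb : ∀ x, p x = Finsupp.linearCombination K f x.coeff := fun x => by
      induction x using MonoidAlgebra.induction_on with
      | of g => simp [f, MonoidAlgebra.of_apply]
      | add a b ha hb => rw [map_add, MonoidAlgebra.coeff_add, map_add, ha, hb]
      | smul r a ha => rw [map_smul, MonoidAlgebra.coeff_smul, map_smul, ha]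
    intro x hx
    exact MonoidAlgebra.coeff_injective
      (hfLI (by rw [← hcomb, hx, MonoidAlgebra.coeff_zero, map_zero]))
  intro x hx
  refine hinj ?_
  rw [hp, map_zero, hx]

/-- A point of `D(Λ)` fixing the generic affine open fixes everything. -/
theorem trivial_of_fix [IsSeparated X.hom] [IsIntegral X.left] (a : AlgGrp.Action (Red.diag k Λ) X)
    [IsDomain R] (j : aff k R ⟶ X) [IsOpenImmersion j.left] (Q : Type) [CommGroup Q]
    (q : Multiplicative Λ →* Q)
    (hfix : Fix a j (IsScalarTower.toAlgHom k R (MonoidAlgebra R Q)) ((MonoidAlgebra.of R Q).comp q)) :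
    lift (fst (aff k (MonoidAlgebra k Q)) X ≫ gPt ((MonoidAlgebra.of k Q).comp q))
      (snd (aff k (MonoidAlgebra k Q)) X) ≫ a.act = snd (aff k (MonoidAlgebra k Q)) X := by
  let H := aff k (MonoidAlgebra k Q)
  let g₀ : H ⟶ Red.diag k Λ := gPt ((MonoidAlgebra.of k Q).comp q)
  have key : (H ◁ j) ≫ lift (fst H X ≫ g₀) (snd H X) ≫ a.act = (H ◁ j) ≫ snd H X := by
    rw [comp_lift_assoc, whiskerLeft_fst_assoc, whiskerLeft_snd]
    let f1 : MonoidAlgebra k Q →ₐ[k] MonoidAlgebra R Q :=
      MonoidAlgebra.lift k (MonoidAlgebra R Q) _ (MonoidAlgebra.of R Q)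
    let m : aff k (MonoidAlgebra R Q) ⟶ H ⊗ aff k R :=
      lift (mapA f1) (mapA (IsScalarTower.toAlgHom k R (MonoidAlgebra R Q)))
    haveI : IsIso m := isIso_prodPt Q
    rw [← cancel_epi m, comp_lift_assoc, ← Category.assoc, ← Category.assoc, lift_fst, lift_snd,
      mapA_gPt]
    have hc : f1.toMonoidHom.comp ((MonoidAlgebra.of k Q).comp q) = (MonoidAlgebra.of R Q).comp q := by
      ext g
      simp [f1]
    rw [hc]
    exact hfix
  haveI : Nonempty (aff k R).left := inferInstanceAs (Nonempty (PrimeSpectrum R))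
  haveI : IsDominant j.left := by
    rw [isDominant_iff]
    exact (j.left.isOpenEmbedding.isOpen_range).dense (Set.range_nonempty _)
  haveI : IsSchemeTheoreticallyDominant j.left := .of_isDominant _
  haveI : IsAffineHom j.left := by
    haveI : IsAffine (aff k R).left := inferInstanceAs (IsAffine (Spec _))
    haveI : IsAffineHom (j.left ≫ X.hom) := by
      rw [Over.w]; exact isAffineHom_of_isAffine _
    exact IsAffineHom.of_comp j.left X.hom
  haveI : Flat (snd H X).left := by
    haveI : Flat H.hom := inferInstance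
    exact inferInstanceAs (Flat (pullback.snd H.hom X.hom))
  haveI : IsSchemeTheoreticallyDominant (H ◁ j).left :=
    IsSchemeTheoreticallyDominant.of_isPullback (f := j.left) (g := (snd H X).left)
      (pX := (snd H (aff k R)).left)
      (show IsPullback (snd H (aff k R)).left (H ◁ j).left j.left (snd H X).left from
        ((AlgSt.isPullback_whiskerLeft (G := H) j).map (Over.forget _)).flip)
  refine Over.OverMorphism.ext (S2299.result (H ◁ j).left X.hom _ _ ?_ (congrArg CommaMorphism.left key))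
  rw [Over.w, Over.w]

/-- Generic triviality of stabilisers, on an affine open of an integral scheme. -/
theorem exists_basicOpen_free [IsSeparated X.hom] [IsIntegral X.left] [Module.Finite ℤ Λ]
    (a : AlgGrp.Action (Red.diag k Λ) X)
    (hfaith : ∀ (S : Over (Spec (CommRingCat.of k))) (g : S ⟶ Red.diag k Λ),
      (∀ (S' : Over (Spec (CommRingCat.of k))) (s : S' ⟶ S) (x : S' ⟶ X), lift (s ≫ g) x ≫ a.act = x) → g = 1)
    [IsDomain R] (j : aff k R ⟶ X) [IsOpenImmersion j.left] :
    ∃ s : R, s ≠ 0 ∧ ∀ (C : Type u) [CommRing C] [Algebra k C] (φ : R →ₐ[k] C)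
      (χ : Multiplicative Λ →* C), Fix a j φ χ → IsUnit (φ s) → χ = 1 := by
  classical
  obtain ⟨I, hI⟩ := exists_ideal a j
  let K := FractionRing R
  let ψ := MonoidAlgebra.mapRingHom (Multiplicative Λ) (algebraMap R K)
  let J := I.map ψ
  obtain ⟨C, _, _, π, hπ, hπker⟩ : ∃ (C : Type u) (_ : CommRing C) (_ : Algebra K C)
      (π : MonoidAlgebra K (Multiplicative Λ) →ₐ[K] C), Function.Surjective π ∧
        RingHom.ker π.toRingHom = J := by
    refine ⟨MonoidAlgebra K (Multiplicative Λ) ⧸ J, inferInstance, inferInstance,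
      Ideal.Quotient.mkₐ K J, Ideal.Quotient.mkₐ_surjective K J, Ideal.ext fun x => ?_⟩
    exact Ideal.Quotient.eq_zero_iff_mem
  letI : Algebra k C := ((algebraMap K C).comp (algebraMap k K)).toAlgebra
  haveI : IsScalarTower k K C := IsScalarTower.of_algebraMap_eq' rfl
  let φD : ∀ (D : Type u) [CommRing D] [Algebra k D] [Algebra K D] [IsScalarTower k K D], R →ₐ[k] D :=
    fun D _ _ _ _ => (IsScalarTower.toAlgHom k K D).comp (IsScalarTower.toAlgHom k R K)
  have hpair : ∀ (D : Type u) [CommRing D] [Algebra k D] [Algebra K D] [IsScalarTower k K D]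
      (χ : Multiplicative Λ →* D) (x : MonoidAlgebra R (Multiplicative Λ)),
      pairHom (φD D) χ x = MonoidAlgebra.lift K D _ χ (ψ x) := by
    intro D _ _ _ _ χ x
    refine RingHom.congr_fun (g := (MonoidAlgebra.lift K D _ χ).toRingHom.comp ψ) ?_ x
    refine MonoidAlgebra.ringHom_ext (fun r => ?_) (fun m => ?_) <;>
      simp [ψ, φD, Algebra.smul_def]
  let ε : Multiplicative Λ →* C := π.toMonoidHom.comp (MonoidAlgebra.of K _)
  have hlift : MonoidAlgebra.lift K C _ ε = π := (MonoidAlgebra.lift K C _).apply_symm_apply π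
  have hε : Fix a j (φD C) ε := (hI C (φD C) ε).2 fun x hx => by
    rw [RingHom.mem_ker, hpair, hlift]
    have : ψ x ∈ RingHom.ker π.toRingHom := by rw [hπker]; exact Ideal.mem_map_of_mem ψ hx
    exact this
  have hker : ∀ (D : Type u) [CommRing D] [Algebra k D] [Algebra K D] [IsScalarTower k K D]
      (χ : Multiplicative Λ →* D), Fix a j (φD D) χ →
      J ≤ RingHom.ker (MonoidAlgebra.lift K D _ χ).toRingHom := by
    intro D _ _ _ _ χ hχ
    refine Ideal.map_le_iff_le_comap.2 fun x hx => ?_
    rw [Ideal.mem_comap, RingHom.mem_ker]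
    exact (hpair D χ x).symm.trans ((hI D _ χ).1 hχ hx)
  haveI : Nontrivial C := by
    by_contra hC
    rw [not_nontrivial_iff_subsingleton] at hC
    have h1 : (1 : MonoidAlgebra K (Multiplicative Λ)) ∈ J := by
      rw [← hπker]; exact Subsingleton.elim _ _
    have h2 := hker K 1 (Fix.one a j (φD K)) h1
    rw [RingHom.mem_ker, map_one] at h2
    exact one_ne_zero h2
  let il : C →ₐ[K] C ⊗[K] C := Algebra.TensorProduct.includeLeft
  let ir : C →ₐ[K] C ⊗[K] C := Algebra.TensorProduct.includeRight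
  have hΔ' : Fix a j (φD (C ⊗[K] C)) (il.toMonoidHom.comp ε * ir.toMonoidHom.comp ε) := by
    have hf : ∀ f : C →ₐ[K] C ⊗[K] C, Fix a j (φD (C ⊗[K] C)) (f.toMonoidHom.comp ε) := fun f => by
      have h := Fix.map a j hε (f.restrictScalars k)
      have e : (f.restrictScalars k).comp (φD C) = φD (C ⊗[K] C) := AlgHom.ext fun r => f.commutes _
      rw [e] at h
      exact h
    exact Fix.mul a j (hf il) (hf ir)
  let l2 := MonoidAlgebra.lift K (C ⊗[K] C) _ (il.toMonoidHom.comp ε * ir.toMonoidHom.comp ε)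
  have hl2 : RingHom.ker π.toRingHom ≤ RingHom.ker l2.toRingHom := by
    rw [hπker]; exact hker _ _ hΔ'
  let Δ : C →ₐ[K] C ⊗[K] C :=
    (Ideal.Quotient.liftₐ (RingHom.ker π.toRingHom) l2 fun x hx => hl2 hx).comp
      (Ideal.quotientKerAlgEquivOfSurjective hπ).symm.toAlgHom
  have hΔπ : ∀ x, Δ (π x) = l2 x := fun x => by
    have : (Ideal.quotientKerAlgEquivOfSurjective hπ).symm (π x) = Ideal.Quotient.mk _ x := by
      rw [AlgEquiv.symm_apply_eq]; rfl
    change Ideal.Quotient.liftₐ (RingHom.ker π.toRingHom) l2 (fun x hx => hl2 hx) ((Ideal.quotientKerAlgEquivOfSurjective hπ).symm (π x)) = _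
    rw [this]
    rfl
  obtain ⟨M', hM', hsec⟩ := exists_hom_of_grouplike π Δ fun g => by
    rw [hΔπ]
    simp [l2, il, ir, ε, MonoidAlgebra.of_apply]
  let qh : Multiplicative Λ →* Multiplicative (Λ ⧸ M') := (QuotientAddGroup.mk' M').toMultiplicative
  have hfix : Fix a j (IsScalarTower.toAlgHom k R (MonoidAlgebra R (Multiplicative (Λ ⧸ M'))))
      ((MonoidAlgebra.of R (Multiplicative (Λ ⧸ M'))).comp qh) := by
    refine (hI _ _ _).2 fun x hx => ?_
    rw [RingHom.mem_ker]
    have hx' : ψ x ∈ RingHom.ker π.toRingHom := by rw [hπker]; exact Ideal.mem_map_of_mem ψ hx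
    have h0 := hsec (ψ x) hx'
    have hcomm : (MonoidAlgebra.mapDomainAlgHom K K qh).toRingHom.comp ψ =
        (MonoidAlgebra.mapRingHom (Multiplicative (Λ ⧸ M')) (algebraMap R K)).comp
          (pairHom (IsScalarTower.toAlgHom k R (MonoidAlgebra R (Multiplicative (Λ ⧸ M'))))
            ((MonoidAlgebra.of R (Multiplicative (Λ ⧸ M'))).comp qh)) := by
      refine MonoidAlgebra.ringHom_ext (fun r => ?_) (fun m => ?_) <;>
        simp [ψ, qh, MonoidAlgebra.coe_algebraMap]
    have h1 := RingHom.congr_fun hcomm x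
    change MonoidAlgebra.mapDomainAlgHom K K qh (ψ x) = _ at h1
    rw [h0] at h1
    refine (map_eq_zero_iff (MonoidAlgebra.mapRingHom (Multiplicative (Λ ⧸ M')) (algebraMap R K)) ?_).1 h1.symm
    intro y z hyz
    ext g
    have := congrArg (fun w : MonoidAlgebra K (Multiplicative (Λ ⧸ M')) => w.coeff g) hyz
    simpa [(IsFractionRing.injective R K).eq_iff] using this
  have htriv := trivial_of_fix a j _ qh hfix
  have hg₀ : gPt ((MonoidAlgebra.of k (Multiplicative (Λ ⧸ M'))).comp qh) = 1 :=
    hfaith _ _ fun S' s x => by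
      have := congrArg (lift s x ≫ ·) htriv
      simpa [comp_lift_assoc] using this
  have hall : ∀ m : Λ, m ∈ M' := fun m => by
    have h := congrArg (fun g => RedPts.Affine.diagFn g m) hg₀
    simp only [diagFn_gPt, RedPts.Affine.diagFn_one] at h
    have h' : MonoidAlgebra.of k (Multiplicative (Λ ⧸ M')) (qh (Multiplicative.ofAdd m)) = 1 :=
      (ConcreteCategory.bijective_of_isIso
        (Scheme.ΓSpecIso (CommRingCat.of (MonoidAlgebra k (Multiplicative (Λ ⧸ M'))))).inv).1
        (h.trans (map_one _).symm)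
    have h2 : qh (Multiplicative.ofAdd m) = 1 :=
      MonoidAlgebra.of_injective (h'.trans (map_one _).symm)
    exact (QuotientAddGroup.eq_zero_iff m).1 (congrArg Multiplicative.toAdd h2)
  have hmem : ∀ m : Λ, ∃ s ∈ nonZeroDivisors R,
      s • (MonoidAlgebra.of R (Multiplicative Λ) (Multiplicative.ofAdd m) - 1) ∈ I := fun m => by
    refine exists_smul_mem (K := K) I _ ?_
    change ψ _ ∈ J
    rw [← hπker, RingHom.mem_ker, map_sub, map_one, map_sub, map_one, sub_eq_zero]
    simpa [ψ, MonoidAlgebra.of_apply] using hM' m (hall m)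
  choose s hs hsI using hmem
  obtain ⟨F, hF⟩ := Module.Finite.fg_top (R := ℤ) (M := Λ)
  refine ⟨∏ m ∈ F, s m, nonZeroDivisors.ne_zero (Submonoid.prod_mem _ fun m _ => hs m),
    fun D _ _ φ χ hfix hu => ?_⟩
  have hgen : ∀ m ∈ F, χ (Multiplicative.ofAdd m) = 1 := fun m hm => by
    have h := (hI D φ χ).1 hfix (hsI m)
    rw [RingHom.mem_ker, Algebra.smul_def, map_mul] at h
    have hus : IsUnit (φ (s m)) := isUnit_of_dvd_unit (map_dvd φ (Finset.dvd_prod_of_mem s hm)) hu
    have e : pairHom φ χ (algebraMap R _ (s m)) = φ (s m) := by simp [MonoidAlgebra.coe_algebraMap]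
    rw [e, hus.mul_right_eq_zero] at h
    simpa [sub_eq_zero, MonoidAlgebra.of_apply] using h
  refine MonoidHom.ext fun m => ?_
  have hmspan : m.toAdd ∈ AddSubgroup.closure (F : Set Λ) := by
    rw [← Submodule.span_int_eq_addSubgroupClosure, hF]; trivial
  change χ m = 1
  refine AddSubgroup.closure_induction (p := fun x _ => χ (Multiplicative.ofAdd x) = 1)
    (fun x hx => hgen x hx) (map_one χ)
    (fun x y _ _ hx hy => by rw [ofAdd_add, map_mul, hx, hy, _root_.one_mul])
    (fun x _ hx => by
      have := map_mul χ (Multiplicative.ofAdd x)⁻¹ (Multiplicative.ofAdd x)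
      rw [inv_mul_cancel, map_one, hx, _root_.mul_one] at this
      exact this.symm) hmspan

end

end Groth.Agent.H60.TorusFree
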